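import Groth.Agent.Lib.MultKernelGenlead.Main
import Groth.Agent.Lib.MultLift.DualEtale
import Groth.Agent.Lib.ProjDescent.Main
import Mathlib.RingTheory.Smooth.IntegralClosure
import Mathlib.RingTheory.Etale.Pi
import Mathlib.RingTheory.Unramified.Field
import Mathlib.RingTheory.Artinian.Module

/-!
Groups of multiplicative type and of finite type over a normal domain are isotrivial.
-/

universe u

set_option linter.style.haveILetI false
set_option maxSynthPendingDepth 3

open TensorProduct MonoidAlgebra

namespace GrothLib.IsotNormlead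

open GrothLib.MultLocal GrothLib.MultLift GrothLib.MultKernelGenlead

variable {R : Type u} [CommRing R] {A : Type u} [CommRing A] [HopfAlgebra R A]

/-- Idempotents of the generic fibre of a smooth algebra over a normal domain are idempotents of the algebra. -/
theorem exists_tmul_one_eq_of_isIdempotentElem [IsDomain R] [IsIntegrallyClosed R] {S : Type u} [CommRing S]
    [Algebra R S] [Algebra.Smooth R S] (b : S ⊗[R] FractionRing R) (hb : IsIdempotentElem b) :
    ∃ s : S, s ⊗ₜ[R] (1 : FractionRing R) = b := by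
  let K := FractionRing R
  rcases subsingleton_or_nontrivial S with hS | hS
  · haveI : Subsingleton (S ⊗[R] K) := subsingleton_of_zero_eq_one (by
      rw [Algebra.TensorProduct.one_def, Subsingleton.elim (1 : S) 0, zero_tmul])
    exact ⟨0, Subsingleton.elim _ _⟩
  have hint : b ∈ integralClosure S (S ⊗[R] K) := by
    refine ⟨Polynomial.X ^ 2 - Polynomial.X, (Polynomial.monic_X_pow 2).sub_of_left ?_, ?_⟩
    · rw [Polynomial.degree_X_pow, Polynomial.degree_X]; norm_num
    · rw [Polynomial.eval₂_sub, Polynomial.eval₂_X_pow, Polynomial.eval₂_X, pow_two, hb.eq, sub_self]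
  obtain ⟨z, hz⟩ := (TensorProduct.toIntegralClosure_bijective_of_smooth (R := R) (S := S) (B := K)).2 ⟨b, hint⟩
  have hz' : Algebra.TensorProduct.map (AlgHom.id S S) (integralClosure R K).val z = b := congrArg Subtype.val hz
  suffices h : ∀ z : S ⊗[R] integralClosure R K,
      ∃ s : S, s ⊗ₜ[R] (1 : K) = Algebra.TensorProduct.map (AlgHom.id S S) (integralClosure R K).val z by
    obtain ⟨s, hs⟩ := h z
    exact ⟨s, hs.trans hz'⟩
  intro z
  induction z using TensorProduct.induction_on with
  | zero => exact ⟨0, by simp⟩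
  | add x y hx hy =>
    obtain ⟨a, ha⟩ := hx
    obtain ⟨c, hc⟩ := hy
    exact ⟨a + c, by rw [add_tmul, ha, hc, map_add]⟩
  | tmul t x =>
    obtain ⟨r, hr⟩ := IsIntegrallyClosed.isIntegral_iff.mp x.2
    refine ⟨r • t, ?_⟩
    rw [Algebra.TensorProduct.map_tmul, AlgHom.id_apply, smul_tmul, Subalgebra.coe_val, ← hr,
      Algebra.algebraMap_eq_smul_one]

/-- The passage to the generic fibre is injective on flat algebras. -/
theorem tmul_one_injective [IsDomain R] (S : Type u) [CommRing S] [Algebra R S] [Module.Flat R S] :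
    Function.Injective (fun s : S => s ⊗ₜ[R] (1 : FractionRing R)) :=
  Algebra.TensorProduct.includeLeft_injective (R := R) (S := R) (A := S) (B := FractionRing R)
    (IsFractionRing.injective R (FractionRing R))

/-- Transition between two frames. -/
theorem exists_transition {T : Type u} [CommRing T] [Algebra R T] {M : Type u} [CommGroup M]
    {g₁ g₂ : M →* GroupLike T (T ⊗[R] A)} (hg₂ : IsFrame g₂) (m : M) :
    ∃ x : MonoidAlgebra T M, IsGroupLikeElem T x ∧ glHom g₂ x = (g₁ m).val :=
  ⟨hg₂.equiv.symm (g₁ m).val, (g₁ m).isGroupLikeElem_val.map hg₂.equiv.symm, by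
    rw [← hg₂.equiv_apply, BialgEquiv.apply_symm_apply]⟩

theorem glHom_comp_bialg {T : Type u} [CommRing T] [Algebra R T] {M : Type u} [CommGroup M]
    (g : M →* GroupLike T (T ⊗[R] A)) (w : M →* GroupLike T (MonoidAlgebra T M)) (z : MonoidAlgebra T M) :
    glHom ((glPush (glHom g)).comp w) z = glHom g (glHom w z) :=
  glHom_glPush (glHom g) w z

/-- A frame over a smooth algebra whose generic fibre is given a second frame can be changed to extend it. -/
theorem exists_frame_extend [IsDomain R] [IsIntegrallyClosed R] {S : Type u} [CommRing S] [Algebra R S]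
    [Algebra.Smooth R S] {M : Type u} [CommGroup M] {g : M →* GroupLike S (S ⊗[R] A)} (hg : IsFrame g)
    {g₁ : M →* GroupLike (S ⊗[R] FractionRing R) ((S ⊗[R] FractionRing R) ⊗[R] A)} (hg₁ : IsFrame g₁) :
    ∃ g' : M →* GroupLike S (S ⊗[R] A), IsFrame g' ∧
      (glMap A (Algebra.TensorProduct.includeLeft : S →ₐ[R] S ⊗[R] FractionRing R)).comp g' = g₁ := by
  classical
  let K := FractionRing R
  let ι : S →ₐ[R] S ⊗[R] K := Algebra.TensorProduct.includeLeft
  have hι : Function.Injective ι := tmul_one_injective S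
  let g₂ := (glMap A ι).comp g
  have hg₂ : IsFrame g₂ := hg.map ι
  have hmap : Function.Injective (mapRingHom M (ι : S →+* S ⊗[R] K)) := fun x y h => by
    refine MonoidAlgebra.ext (Finsupp.ext fun m => hι ?_)
    simpa using congrArg (fun z => z.coeff m) h
  have lift : ∀ x : MonoidAlgebra (S ⊗[R] K) M, IsGroupLikeElem (S ⊗[R] K) x →
      ∃ w : MonoidAlgebra S M, IsGroupLikeElem S w ∧ mapRingHom M (ι : S →+* S ⊗[R] K) w = x := by
    intro x hx
    choose e he using fun m => exists_tmul_one_eq_of_isIdempotentElem (x.coeff m) (isIdempotentElem_coeff hx m)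
    let w : MonoidAlgebra S M := ∑ m ∈ x.coeff.support, single m (e m)
    have hw : mapRingHom M (ι : S →+* S ⊗[R] K) w = x := by
      conv_rhs => rw [← MonoidAlgebra.sum_coeff_single x]
      rw [map_sum, Finsupp.sum]
      refine Finset.sum_congr rfl fun m _ => ?_
      rw [mapRingHom_single]
      exact congrArg (single m) (he m)
    refine ⟨w, (isGroupLikeElem_groupAlg_iff w).mpr ?_, hw⟩
    have hco : ∀ m, ι (w.coeff m) = x.coeff m := fun m => by
      rw [← hw]; simp
    obtain ⟨horth, hsum⟩ := (isGroupLikeElem_groupAlg_iff x).mp hx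
    refine ⟨fun a b => hι ?_, hι ?_⟩
    · rw [map_mul, hco, hco, horth]
      split_ifs <;> simp [hco]
    · have hsub : x.coeff.support ⊆ w.coeff.support := fun m hm => by
        rw [Finsupp.mem_support_iff] at hm ⊢
        exact fun h0 => hm (by rw [← hco, h0, map_zero])
      rw [Finsupp.sum_of_support_subset _ hsub _ fun _ _ => rfl] at hsum
      rw [map_one, ← hsum, Finsupp.sum, map_sum]
      exact Finset.sum_congr rfl fun m _ => hco m
  -- the transition and its inverse
  choose x hxgl hx using fun m => exists_transition (g₁ := g₁) hg₂ m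
  choose y hygl hy using fun m => exists_transition (g₁ := g₂) hg₁ m
  choose w hwgl hw using fun m => lift (x m) (hxgl m)
  choose v hvgl hv using fun m => lift (y m) (hygl m)
  let W : M →* GroupLike S (MonoidAlgebra S M) :=
    { toFun := fun m => ⟨w m, hwgl m⟩
      map_one' := GroupLike.ext (hmap (by
        rw [hw, GroupLike.val_one, map_one]
        exact hg₂.1 (by rw [hx, map_one, map_one, GroupLike.val_one])))
      map_mul' := fun a b => GroupLike.ext (hmap (by
        rw [hw, GroupLike.val_mul, map_mul, hw, hw]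
        exact hg₂.1 (by rw [map_mul, hx, hx, hx, map_mul, GroupLike.val_mul]))) }
  let V : M →* GroupLike S (MonoidAlgebra S M) :=
    { toFun := fun m => ⟨v m, hvgl m⟩
      map_one' := GroupLike.ext (hmap (by
        rw [hv, GroupLike.val_one, map_one]
        exact hg₁.1 (by rw [hy, map_one, map_one, GroupLike.val_one])))
      map_mul' := fun a b => GroupLike.ext (hmap (by
        rw [hv, GroupLike.val_mul, map_mul, hv, hv]
        exact hg₁.1 (by rw [map_mul, hy, hy, hy, map_mul, GroupLike.val_mul]))) }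
  let g' := (glPush (glHom g)).comp W
  have hgK : (glMap A ι).comp g' = g₁ := MonoidHom.ext fun m => GroupLike.ext (by
    change coefMap A ι (glHom g (w m)) = _
    rw [← glHom_glMap, hw, hx])
  have key : ∀ z, glHom g₁ (mapRingHom M (ι : S →+* S ⊗[R] K) z) = glHom g₂ (mapRingHom M (ι : S →+* S ⊗[R] K) (glHom W z)) := fun z => by
    conv_lhs => rw [← hgK, glHom_glMap, glHom_comp_bialg, ← glHom_glMap]
  have key' : ∀ z, glHom g₂ (mapRingHom M (ι : S →+* S ⊗[R] K) z) = glHom g₁ (mapRingHom M (ι : S →+* S ⊗[R] K) (glHom V z)) := fun z => by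
    induction z using MonoidAlgebra.induction_linear with
    | zero => simp
    | add p q hp hq => simp only [map_add, hp, hq]
    | single m r =>
      rw [glHom_single, mapRingHom_single, glHom_single]
      have h1 : mapRingHom M (ι : S →+* S ⊗[R] K) (r • v m) = (ι r) • y m := by
        refine MonoidAlgebra.ext (Finsupp.ext fun a => ?_)
        rw [← hv m]
        simp
      change _ = glHom g₁ (mapRingHom M (ι : S →+* S ⊗[R] K) (r • v m))
      rw [h1, map_smul, hy]
      rfl
  have hW : Function.Bijective (glHom W) := by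
    refine Function.bijective_iff_has_inverse.mpr ⟨glHom V, fun z => hmap (hg₁.1 ?_), fun z => hmap (hg₂.1 ?_)⟩
    · rw [← key', ← key]
    · rw [← key, ← key']
  refine ⟨g', ?_, hgK⟩
  rw [IsFrame, show (glHom g' : MonoidAlgebra S M → S ⊗[R] A) = glHom g ∘ glHom W from funext fun z => glHom_comp_bialg g W z]
  exact hg.comp hW

/-- Over a domain a group of multiplicative type and of finite type has one type and is split by one etale
faithfully flat algebra. -/
theorem exists_etale_frame [IsDomain R] [Algebra.FiniteType R A] (h : SGA3b.IsMultType R A) :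
    ∃ (T : Type u) (_ : CommRing T) (_ : Algebra R T) (M : Type u) (_ : CommGroup M),
      Algebra.Etale R T ∧ Module.FaithfullyFlat R T ∧ Group.FG M ∧ ∃ g : M →* GroupLike T (T ⊗[R] A), IsFrame g := by
  classical
  obtain ⟨s, hs, hloc⟩ := GrothLib.MultLocal.isQuasiIsotrivial h
  obtain ⟨t, hts, ht⟩ := (Ideal.span_eq_top_iff_finite s).mp hs
  let F := {i : t // (i : R) ≠ 0}
  have hF : ∀ i : F, SGA3b.IsQuasiIsotrivialConst (Localization.Away (i.1 : R)) (Localization.Away (i.1 : R) ⊗[R] A) :=
    fun i => hloc _ (hts i.1.2)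
  choose T' iR iA het hff M iM hM using hF
  letI : ∀ i, Algebra R (T' i) := fun i => Algebra.compHom (T' i) (algebraMap R (Localization.Away (i.1 : R)))
  haveI : ∀ i, IsScalarTower R (Localization.Away (i.1 : R)) (T' i) := fun i => IsScalarTower.of_algebraMap_eq fun _ => rfl
  haveI : ∀ i, Algebra.Etale R (T' i) := fun i => by
    haveI := het i
    haveI : Algebra.Etale R (Localization.Away (i.1 : R)) := Algebra.Etale.of_isLocalizationAway (i.1 : R)
    exact Algebra.Etale.comp R (Localization.Away (i.1 : R)) (T' i)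
  have hg : ∀ i, ∃ g : M i →* GroupLike (T' i) (T' i ⊗[R] A), IsFrame g := fun i => by
    obtain ⟨e⟩ := hM i
    exact exists_frame_of_equiv (GrothLib.Hopf.trivOfAway (Localization.Away (i.1 : R)) (T' i) e)
  choose g hg using hg
  have hsurj : ∀ (i : F) (p : PrimeSpectrum R), (i.1 : R) ∉ p.asIdeal →
      ∃ y : PrimeSpectrum (T' i), PrimeSpectrum.comap (algebraMap R (T' i)) y = p := fun i p hp => by
    haveI := hff i
    obtain ⟨x, hx⟩ : p ∈ Set.range (PrimeSpectrum.comap (algebraMap R (Localization.Away (i.1 : R)))) := by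
      rw [PrimeSpectrum.localization_away_comap_range (Localization.Away (i.1 : R)) (i.1 : R)]
      exact hp
    obtain ⟨y, hy⟩ := PrimeSpectrum.comap_surjective_of_faithfullyFlat (B := T' i) x
    exact ⟨y, by rw [IsScalarTower.algebraMap_eq R (Localization.Away (i.1 : R)) (T' i), PrimeSpectrum.comap_comp_apply, hy, hx]⟩
  let η : PrimeSpectrum R := ⟨⊥, Ideal.isPrime_bot⟩
  choose y hy using fun i => hsurj i η (fun h => i.2 (Ideal.mem_bot.mp h))
  have hiso : ∀ i j, Nonempty (M i ≃* M j) := fun i j =>
    nonempty_mulEquiv_of_points (y i) (y j) (by rw [hy, hy]) (hg i) (hg j)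
  have hcov : ∀ p : PrimeSpectrum R, ∃ i : F, (i.1 : R) ∉ p.asIdeal := fun p => by
    obtain ⟨r, hr, hrp⟩ : ∃ r ∈ t, r ∉ p.asIdeal := by
      by_contra! hc
      exact p.isPrime.ne_top (top_le_iff.mp (ht ▸ Ideal.span_le.mpr hc))
    exact ⟨⟨⟨r, hr⟩, fun (h0 : r = 0) => hrp (by rw [h0]; exact p.asIdeal.zero_mem)⟩, hrp⟩
  obtain ⟨i₀, -⟩ := hcov η
  obtain ⟨gT, hgT, -⟩ := exists_frame_pi (T := T') (fun i => (g i).comp (hiso i₀ i).some.toMonoidHom)
    fun i => isFrame_comp_mulEquiv (hg i) _
  haveI : Module.FaithfullyFlat R (∀ i, T' i) := by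
    refine Module.FaithfullyFlat.of_comap_surjective fun p => ?_
    obtain ⟨i, hi⟩ := hcov p
    obtain ⟨z, hz⟩ := hsurj i p hi
    refine ⟨PrimeSpectrum.comap (Pi.evalRingHom T' i) z, ?_⟩
    rw [← PrimeSpectrum.comap_comp_apply, ← hz]
    exact congrArg (fun φ => PrimeSpectrum.comap φ z) (RingHom.ext fun _ => rfl)
  haveI : Nontrivial (∀ i, T' i) := (FaithfulSMul.algebraMap_injective R (∀ i, T' i)).nontrivial
  exact ⟨∀ i, T' i, inferInstance, inferInstance, M i₀, inferInstance, inferInstance, inferInstance,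
    fg_of_frame hgT, gT, hgT⟩

/-- Groups of multiplicative type and of finite type over a normal domain are isotrivial. -/
theorem isIsotrivial [IsDomain R] [IsIntegrallyClosed R] [Algebra.FiniteType R A] (h : SGA3b.IsMultType R A) :
    SGA3b.IsIsotrivial R A := by
  classical
  obtain ⟨R', _, _, M, _, het, hff, hfg, g, hg⟩ := exists_etale_frame h
  haveI := het; haveI := hff; haveI := hfg
  let K := FractionRing R
  -- a finite kernel separating the descent data
  haveI := isCocomm_of_frame (T := R') hg
  obtain ⟨n, hn, hmod⟩ := exists_modulus hg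
  haveI : (SGA3b.torsionIdeal R A n).IsHopfIdeal R := isHopfIdeal_torsionIdeal n
  let C := A ⧸ SGA3b.torsionIdeal R A n
  let π := Bialgebra.Quotient.mkBialgHom (R := R) (SGA3b.torsionIdeal R A n)
  have hπ : IsKerPow π n := ⟨Ideal.Quotient.mk_surjective, by
    ext x
    rw [RingHom.mem_ker]
    exact Ideal.Quotient.eq_zero_iff_mem⟩
  obtain ⟨gQ, hgQ, -⟩ := exists_frame_kernel π hπ hg
  haveI := finite_quot_powSub (M := M) hn
  haveI := isCocomm_of_frame (T := R') hgQ
  haveI : Module.Finite R' (R' ⊗[R] C) :=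
    Module.Finite.of_basis ((MonoidAlgebra.basis _ R').map hgQ.equiv.toLinearEquiv)
  haveI : Module.Free R' (R' ⊗[R] C) :=
    Module.Free.of_basis ((MonoidAlgebra.basis _ R').map hgQ.equiv.toLinearEquiv)
  haveI : Module.Finite R C := .of_finite_tensorProduct_of_faithfullyFlat R'
  haveI : Module.Projective R C := GrothLib.ProjDescent.projective_of_faithfullyFlat R' _
  haveI : Algebra.Etale R (CartDual.D R C) := etale_dual_of_isMultType (isMultType_of_frame hgQ)
  obtain ⟨L, _, _, hLe, hLf, hLff, Q, _, ⟨e⟩⟩ := (isIsotrivial_of_etale_dual : SGA3b.IsIsotrivial R C)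
  haveI := hLe; haveI := hLf; haveI := hLff
  obtain ⟨hC, hhC⟩ := exists_frame_of_equiv e
  -- a frame over the generic fibre of `L`
  let LK := L ⊗[R] K
  haveI : Algebra.Etale R L := hLe
  letI : Algebra K LK := Algebra.TensorProduct.rightAlgebra
  haveI : IsArtinianRing LK ∧ IsReduced LK := by
    let eB : L ⊗[R] K ≃ₐ[R] K ⊗[R] L := Algebra.TensorProduct.comm R L K
    haveI : IsReduced (K ⊗[R] L) := Algebra.FormallyUnramified.isReduced_of_field K _
    haveI : Module.Finite K (K ⊗[R] L) := Algebra.FormallyUnramified.finite_of_free _ _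
    haveI : IsArtinianRing (K ⊗[R] L) := isArtinian_of_tower K inferInstance
    exact ⟨eB.symm.surjective.isArtinianRing, isReduced_of_injective eB eB.injective⟩
  obtain ⟨hLKa, hLKr⟩ := this
  haveI : Fintype (MaximalSpectrum LK) := Fintype.ofFinite _
  let Fs : MaximalSpectrum LK → Type u := fun m => LK ⧸ m.asIdeal
  letI : ∀ m, Field (Fs m) := fun m => Ideal.Quotient.field m.asIdeal
  have hfac : ∀ m : MaximalSpectrum LK, ∃ g₀ : M →* GroupLike (Fs m) (Fs m ⊗[R] A), IsFrame g₀ := fun m => by
    let φ : L →ₐ[R] Fs m := (Ideal.Quotient.mkₐ R m.asIdeal).comp Algebra.TensorProduct.includeLeft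
    exact exists_frame_of_local hg π (hmod _ π hπ) (Fs m) (hhC.map φ)
  choose gF hgF using hfac
  obtain ⟨gP, hgP, -⟩ := exists_frame_pi (T := Fs) gF hgF
  let ePi : LK ≃ₐ[R] ∀ m, Fs m := AlgEquiv.ofBijective (AlgHom.pi fun m => Ideal.Quotient.mkₐ R m.asIdeal) (by
    constructor
    · refine (injective_iff_map_eq_zero _).mpr fun x hx => ?_
      have : x ∈ nilradical LK := by
        rw [nilradical_eq_sInf, Ideal.mem_sInf]
        intro P hP
        haveI : P.IsPrime := hP
        exact Ideal.Quotient.eq_zero_iff_mem.mp (congrFun hx ⟨P, IsArtinianRing.isMaximal_of_isPrime P⟩)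
      rwa [nilradical_eq_zero, Ideal.zero_eq_bot, Ideal.mem_bot] at this
    · intro x
      have hco : Pairwise fun i j : MaximalSpectrum LK => IsCoprime i.asIdeal j.asIdeal := fun i j hij =>
        Ideal.isCoprime_iff_sup_eq.mpr (i.isMaximal.coprime_of_ne j.isMaximal fun h => hij (MaximalSpectrum.ext h))
      choose r hr using fun m => Ideal.Quotient.mk_surjective (x m)
      obtain ⟨z, hz⟩ := Ideal.pi_quotient_surjective hco x
      exact ⟨z, funext fun m => hz m⟩)
  have hgLK := hgP.map (ePi.symm : (∀ m, Fs m) →ₐ[R] LK)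
  -- extend it to a splitting algebra and descend
  let S := L ⊗[R] R'
  haveI : Algebra.Etale L S := inferInstance
  haveI : Algebra.Etale R S := Algebra.Etale.comp R L S
  let j : L →ₐ[R] S := IsScalarTower.toAlgHom R L S
  let jK : LK →ₐ[R] S ⊗[R] K := Algebra.TensorProduct.map j (AlgHom.id R K)
  obtain ⟨g', hg', hg'K⟩ := exists_frame_extend (hg.map (Algebra.TensorProduct.includeRight : R' →ₐ[R] S))
    (hgLK.map jK)
  let SS := S ⊗[L] S
  haveI : Algebra.Etale S SS := inferInstance
  haveI : Algebra.Etale R SS := Algebra.Etale.comp R S SS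
  let i₁ : S →ₐ[R] SS := (Algebra.TensorProduct.includeLeft : S →ₐ[L] SS).restrictScalars R
  let i₂ : S →ₐ[R] SS := (Algebra.TensorProduct.includeRight : S →ₐ[L] SS).restrictScalars R
  have hij : i₁.comp j = i₂.comp j := AlgHom.ext fun l =>
    ((Algebra.TensorProduct.includeLeft : S →ₐ[L] SS).commutes l).trans
      ((Algebra.TensorProduct.includeRight : S →ₐ[L] SS).commutes l).symm
  let κ : SS →ₐ[R] SS ⊗[R] K := Algebra.TensorProduct.includeLeft
  have hκ : ∀ i : S →ₐ[R] SS, κ.comp i = (Algebra.TensorProduct.map i (AlgHom.id R K)).comp Algebra.TensorProduct.includeLeft :=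
    fun i => AlgHom.ext fun _ => rfl
  have hjK : (Algebra.TensorProduct.map i₁ (AlgHom.id R K)).comp jK = (Algebra.TensorProduct.map i₂ (AlgHom.id R K)).comp jK := by
    rw [← Algebra.TensorProduct.map_comp, ← Algebra.TensorProduct.map_comp, hij]
  obtain ⟨g₀, hg₀, -⟩ := exists_frame_of_descent_tower L hg' fun m => by
    change (glMap A i₁ (g' m)).val = (glMap A i₂ (g' m)).val
    have hf := hg'.map i₁
    obtain ⟨a, ha⟩ := hf.2 (glMap A i₂ (g' m)).val
    have h1 : glMap A κ (glMap A i₁ (g' m)) = glMap A κ (glMap A i₂ (g' m)) := by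
      rw [glMap_glMap, glMap_glMap, hκ, hκ, ← glMap_glMap, ← glMap_glMap]
      have h2 := DFunLike.congr_fun hg'K m
      simp only [MonoidHom.comp_apply] at h2
      simp only [h2, glMap_glMap]
      rw [← AlgHom.comp_assoc, ← AlgHom.comp_assoc, hjK]
    have h3 : a = single m 1 := by
      refine MonoidAlgebra.ext (Finsupp.ext fun k => tmul_one_injective (R := R) SS ?_)
      have h4 : mapRingHom M (κ : SS →+* SS ⊗[R] K) a = mapRingHom M (κ : SS →+* SS ⊗[R] K) (single m 1) := by
        apply (hf.map κ).1
        rw [glHom_glMap, glHom_glMap, ha, glHom_single, one_smul]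
        exact (congrArg GroupLike.val h1).symm
      have h5 := congrArg (fun z => z.coeff k) h4
      simp only [MonoidAlgebra.coeff_mapRingHom, Finsupp.mapRange_apply] at h5
      exact h5
    rw [h3, glHom_single, one_smul] at ha
    exact ha
  exact ⟨L, inferInstance, inferInstance, inferInstance, inferInstance, inferInstance, M, inferInstance,
    ⟨hg₀.equiv.symm⟩⟩

end GrothLib.IsotNormlead
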